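import Groth.Agent.LocCohLib.ExtVanish
import Groth.Agent.LocCohLib.CohDim
import Groth.Agent.CommAlgDim.Depth
import Mathlib.RingTheory.Regular.RegularSequence

/-! Elementary depth facts. -/

set_option autoImplicit false
universe u

open CategoryTheory Abelian RingTheory.Sequence

namespace DepthBasic

variable {A : Type u} [CommRing A]

/-- Regular sequences kill low `Ext` out of torsion modules. -/
theorem subsingleton_ext (I : Ideal A) (N : Type u) [AddCommGroup N] [Module A N] (k : ℕ)
    (hN : (I ^ k) • (⊤ : Submodule A N) = ⊥) : ∀ (rs : List A) (M : Type u) [AddCommGroup M] [Module A M],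
    IsWeaklyRegular M rs → (∀ r ∈ rs, r ∈ I) → ∀ i < rs.length,
      Subsingleton (Ext (ModuleCat.of A N) (ModuleCat.of A M) i) := by
  intro rs
  induction rs with
  | nil => intro M _ _ _ _ i hi; simp at hi
  | cons x rs ih =>
    intro M _ _ hreg hI i hi
    rw [isWeaklyRegular_cons_iff] at hreg
    have hx : IsSMulRegular M x := hreg.1
    have hxI : x ∈ I := hI x List.mem_cons_self
    have ih' := ih (QuotSMulTop x M) hreg.2 fun r hr => hI r (List.mem_cons_of_mem _ hr)
    have hS := IsSMulRegular.smulShortComplex_shortExact (M := ModuleCat.of A M) hx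
    have hinj : ∀ y : Ext (ModuleCat.of A N) (ModuleCat.of A M) i, x • y = 0 → y = 0 := by
      intro y hy
      have hy' : y.comp (Ext.mk₀ (ModuleCat.smulShortComplex (ModuleCat.of A M) x).f) (add_zero i) = 0 := by
        have e1 : y.comp (Ext.mk₀ (x • 𝟙 (ModuleCat.of A M))) (add_zero i) = 0 := by
          rw [Ext.mk₀_smul, Ext.comp_smul, Ext.comp_mk₀_id, hy]
        rw [ModuleCat.smulShortComplex_f_eq_smul_id]
        exact e1
      rcases i with _ | j
      · obtain ⟨φ, rfl⟩ := (Ext.mk₀_bijective _ _).2 y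
        rw [Ext.mk₀_comp_mk₀, ← Ext.mk₀_zero] at hy'
        have := hS.mono_f
        rw [(cancel_mono (ModuleCat.smulShortComplex (ModuleCat.of A M) x).f).1
          (((Ext.mk₀_bijective _ _).1 hy').trans Limits.zero_comp.symm)]
        exact Ext.mk₀_zero _ _
      · obtain ⟨z, rfl⟩ := Ext.covariant_sequence_exact₁ _ hS y hy' rfl
        have hz : Subsingleton (Ext (ModuleCat.of A N) (ModuleCat.of A (QuotSMulTop x M)) j) :=
          ih' j (by simpa using hi)
        rw [show z = 0 from hz.elim _ _]
        exact Ext.zero_comp _ _ _ _ _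
    refine ⟨fun a b => sub_eq_zero.1 ?_⟩
    have hk : x ^ k • (a - b) = 0 := by
      have hz : x ^ k • 𝟙 (ModuleCat.of A N) = 0 := by
        ext (n : N)
        exact (Submodule.mem_bot A).1 (hN ▸ Submodule.smul_mem_smul (Ideal.pow_mem_pow hxI k)
          (Submodule.mem_top : n ∈ ⊤))
      rw [← Ext.mk₀_id_comp (a - b), ← Ext.smul_comp, ← Ext.mk₀_smul, hz, Ext.mk₀_zero, Ext.zero_comp]
    generalize a - b = y at hk ⊢
    clear hN
    induction k with
    | zero => rwa [pow_zero, one_smul] at hk
    | succ k ihk =>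
      rw [pow_succ', mul_smul] at hk
      exact ihk (hinj _ hk)

variable [IsNoetherianRing A] (I : Ideal A)

theorem le_idealDepth_iff_ext (M : Type u) [AddCommGroup M] [Module A M] [Module.Finite A M] (n : ℕ) :
    (n : ℕ∞) ≤ LocCoh.idealDepth I M ↔
      ∀ i < n, Subsingleton (Ext (ModuleCat.of A (A ⧸ I)) (ModuleCat.of A M) i) := by
  constructor
  · intro h i hi
    obtain ⟨rs, hl, hm, hr⟩ := (CommAlgDim.le_idealDepth_iff I n).1 h
    refine subsingleton_ext I (A ⧸ I) 1 ?_ rs M hr hm i (hl ▸ hi)
    rw [pow_one, Submodule.eq_bot_iff]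
    intro x hx
    refine Submodule.smul_induction_on hx (fun a ha y _ => ?_) fun y z hy hz => by rw [hy, hz, add_zero]
    obtain ⟨y, rfl⟩ := Submodule.Quotient.mk_surjective _ y
    rw [← Submodule.Quotient.mk_smul, Submodule.Quotient.mk_eq_zero]
    exact I.mul_mem_right _ ha
  · intro h
    refine (LocCohLib.le_idealDepth_iff_subsingleton_H M n).2 ?_
    exact LocCohLib.subsingleton_H_of_subsingleton_ext I (A ⧸ I)
      (by rw [Module.support_eq_zeroLocus, Ideal.annihilator_quotient]) n M h

theorem idealDepth_quot_add_one (M : Type u) [AddCommGroup M] [Module A M] [Module.Finite A M] (x : A)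
    (hx : x ∈ I) (hreg : IsSMulRegular M x) :
    LocCoh.idealDepth I (QuotSMulTop x M) + 1 = LocCoh.idealDepth I M := by
  refine ENat.eq_of_forall_natCast_le_iff fun n => ?_
  rcases n with _ | n
  · simp
  rw [Nat.cast_succ, ENat.add_le_add_iff_right (by simp : (1 : ℕ∞) ≠ ⊤), CommAlgDim.le_idealDepth_iff,
    ← Nat.cast_succ, CommAlgDim.le_idealDepth_iff]
  exact ⟨CommAlgDim.hasSeqIn_succ_of_cons hx hreg, fun h => h.quotSMulTop hx hreg⟩

end DepthBasic
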