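import Groth.Agent.CommAlgDim.Depth
import Mathlib.RingTheory.Regular.RegularSequence
import Mathlib.RingTheory.Nakayama

/-! Depth with respect to the ideal generated by a list of elements of a local ring. -/

set_option autoImplicit false
universe u

open RingTheory.Sequence IsLocalRing Pointwise CommAlgDim

namespace DepthBasic

variable {R : Type u} [CommRing R] [IsNoetherianRing R] [IsLocalRing R]

/-- Dropping one generator lowers the depth by at most one: the base case. -/
theorem hasSeqIn_one_of_two {M : Type u} [AddCommGroup M] [Module R M] [Module.Finite R M]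
    (J : Ideal R) {x : R} (hx : x ∈ maximalIdeal R) (h : HasSeqIn (J ⊔ Ideal.span {x}) M 2) :
    HasSeqIn J M 1 := by
  rw [hasSeqIn_one_iff]
  intro p hp hJ
  obtain ⟨rs, hl, hm, hr⟩ := h
  match rs, hl with
  | [a, b], _ =>
    rw [isWeaklyRegular_cons_iff, isWeaklyRegular_singleton_iff] at hr
    obtain ⟨ha, hb⟩ := hr
    obtain ⟨j, hj, _, hrx, hadd⟩ := Submodule.mem_sup.1 (hm a (by simp))
    obtain ⟨r, rfl⟩ := Ideal.mem_span_singleton'.1 hrx
    obtain ⟨j', hj', _, hsx, hadd'⟩ := Submodule.mem_sup.1 (hm b (by simp))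
    obtain ⟨s, rfl⟩ := Ideal.mem_span_singleton'.1 hsx
    -- the elements killed by `p`
    let T : Submodule R M :=
      { carrier := {m | ∀ c ∈ p, c • m = 0}
        zero_mem' := fun c _ => smul_zero c
        add_mem' := fun hm hn c hc => by rw [smul_add, hm c hc, hn c hc, add_zero]
        smul_mem' := fun t m hm c hc => by rw [smul_comm, hm c hc, smul_zero] }
    have hTa : ∀ m ∈ T, a • m = r • x • m := fun m hm => by
      rw [← hadd, add_smul, hm j (hJ hj), zero_add, mul_smul]
    have hTb : ∀ m ∈ T, b • m = s • x • m := fun m hm => by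
      rw [← hadd', add_smul, hm j' (hJ hj'), zero_add, mul_smul]
    have hdiv : T ≤ Ideal.span {x} • T := by
      intro m hm
      have h1 : b • (Submodule.Quotient.mk (r • m) : QuotSMulTop a M) = 0 := by
        rw [← Submodule.Quotient.mk_smul, Submodule.Quotient.mk_eq_zero]
        refine Submodule.mem_smul_pointwise_iff_exists _ _ _ |>.2 ⟨s • m, trivial, ?_⟩
        rw [smul_comm b r, hTb m hm, smul_comm a s, hTa m hm, smul_comm r s (x • m)]
      have h2 := hb.right_eq_zero_of_smul h1
      rw [Submodule.Quotient.mk_eq_zero, Submodule.mem_smul_pointwise_iff_exists] at h2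
      obtain ⟨m1, -, hm1⟩ := h2
      have hm1T : m1 ∈ T := fun c hc => ha (by
        show a • c • m1 = a • (0 : M)
        rw [smul_zero, smul_comm, hm1, smul_comm, hm c hc, smul_zero])
      have hmx : m = x • m1 := ha (by
        show a • m = a • x • m1
        rw [hTa m hm, smul_comm a x, hm1, smul_comm r x])
      rw [hmx]
      exact Submodule.smul_mem_smul (Ideal.mem_span_singleton_self x) hm1T
    have hbot : T = ⊥ := Submodule.eq_bot_of_le_smul_of_le_jacobson_bot _ _ (IsNoetherian.noetherian T)
      hdiv (((Ideal.span_singleton_le_iff_mem _).2 hx).trans (maximalIdeal_le_jacobson _))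
    have hp' : IsAssociatedPrime p M := hp
    obtain ⟨hpp, m, hm⟩ := isAssociatedPrime_iff.1 hp'
    have hmT : m ∈ T := fun c hc => by
      rw [hm, Submodule.mem_colon_singleton] at hc
      simpa using hc
    rw [hbot, Submodule.mem_bot] at hmT
    refine hpp.ne_top ?_
    rw [hm, hmT]
    ext; simp

theorem hasSeqIn_pred (J : Ideal R) (hJ : J ≤ maximalIdeal R) {x : R} (hx : x ∈ maximalIdeal R) :
    ∀ (k : ℕ) (M : Type u) [AddCommGroup M] [Module R M] [Module.Finite R M],
      HasSeqIn (J ⊔ Ideal.span {x}) M (k + 1) → HasSeqIn J M k := by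
  intro k
  induction k with
  | zero => intro M _ _ _ _; exact hasSeqIn_zero J
  | succ k ih =>
    intro M _ _ _ h
    obtain ⟨rs, hl, hm, hr⟩ := hasSeqIn_one_of_two J hx (h.mono (by omega))
    obtain ⟨y, rfl⟩ := List.length_eq_one_iff.1 hl
    rw [isWeaklyRegular_singleton_iff] at hr
    have hyJ : y ∈ J := hm y (List.mem_singleton_self y)
    exact hasSeqIn_succ_of_cons hyJ hr (ih _ (h.quotSMulTop (Ideal.mem_sup_left hyJ) hr))

theorem not_hasSeqIn_length_succ : ∀ (xs : List R), (∀ x ∈ xs, x ∈ maximalIdeal R) →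
    ∀ (M : Type u) [AddCommGroup M] [Module R M] [Module.Finite R M] [Nontrivial M],
      ¬ HasSeqIn (Ideal.ofList xs) M (xs.length + 1) := by
  intro xs
  induction xs using List.reverseRecOn with
  | nil =>
    intro _ M _ _ _ _ h
    obtain ⟨rs, hl, hm, hr⟩ := h
    obtain ⟨y, rfl⟩ := List.length_eq_one_iff.1 hl
    have hy : y ∈ Ideal.ofList ([] : List R) := hm y (List.mem_singleton_self y)
    rw [Ideal.ofList_nil, Ideal.mem_bot] at hy
    subst hy
    rw [isWeaklyRegular_singleton_iff, IsSMulRegular.zero_iff_subsingleton] at hr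
    exact not_subsingleton M hr
  | append_singleton xs x ih =>
    intro hxs M _ _ _ _ h
    rw [Ideal.ofList_append, Ideal.ofList_singleton, List.length_append, List.length_singleton] at h
    exact ih (fun y hy => hxs y (by simp [hy])) M (hasSeqIn_pred _
      (Ideal.span_le.2 fun y hy => hxs y (by simp_all)) (hxs x (by simp)) _ M h)

theorem hasSeqIn_quot_ofList (I : Ideal R) : ∀ (rs : List R) (M : Type u) [AddCommGroup M] [Module R M]
    [Module.Finite R M] (k : ℕ), IsWeaklyRegular M rs → (∀ r ∈ rs, r ∈ I) →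
      HasSeqIn I M (rs.length + k) → HasSeqIn I (M ⧸ (Ideal.ofList rs • ⊤ : Submodule R M)) k := by
  intro rs
  induction rs with
  | nil =>
    intro M _ _ _ k _ _ h
    refine HasSeqIn.congr (Submodule.quotEquivOfEqBot _ ?_).symm (by simpa using h)
    rw [Ideal.ofList_nil, Submodule.bot_smul]
  | cons y rs ih =>
    intro M _ _ _ k hr hI h
    rw [isWeaklyRegular_cons_iff] at hr
    have hyI : y ∈ I := hI y List.mem_cons_self
    refine HasSeqIn.congr (Submodule.quotOfListConsSMulTopEquivQuotSMulTopInner M y rs).symm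
      (ih _ k hr.2 (fun r hr' => hI r (List.mem_cons_of_mem _ hr')) (HasSeqIn.quotSMulTop hyI hr.1 ?_))
    rwa [List.length_cons, Nat.add_right_comm] at h

theorem isWeaklyRegular_of_hasSeqIn : ∀ (xs : List R), (∀ x ∈ xs, x ∈ maximalIdeal R) →
    ∀ (M : Type u) [AddCommGroup M] [Module R M] [Module.Finite R M],
      HasSeqIn (Ideal.ofList xs) M xs.length → IsWeaklyRegular M xs := by
  intro xs
  induction xs using List.reverseRecOn with
  | nil => intro _ M _ _ _ _; exact IsWeaklyRegular.nil R M
  | append_singleton xs x ih =>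
    intro hxs M _ _ _ h
    have hxs' : ∀ y ∈ xs, y ∈ maximalIdeal R := fun y hy => hxs y (by simp [hy])
    rw [List.length_append, List.length_singleton] at h
    have h' : HasSeqIn (Ideal.ofList xs ⊔ Ideal.span {x}) M (xs.length + 1) := by
      rwa [Ideal.ofList_append, Ideal.ofList_singleton] at h
    have hreg : IsWeaklyRegular M xs :=
      ih hxs' M (hasSeqIn_pred _ (Ideal.span_le.2 fun y hy => hxs' y hy) (hxs x (by simp)) _ M h')
    refine (isWeaklyRegular_append_iff _ _ _).2 ⟨hreg, (isWeaklyRegular_singleton_iff _ _).2 ?_⟩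
    obtain ⟨rs, hl, hm, hr⟩ := hasSeqIn_quot_ofList _ xs M 1 hreg
      (fun y hy => Ideal.mem_sup_left (Ideal.subset_span hy)) h'
    obtain ⟨y, rfl⟩ := List.length_eq_one_iff.1 hl
    rw [isWeaklyRegular_singleton_iff] at hr
    obtain ⟨j, hj, _, hrx, rfl⟩ := Submodule.mem_sup.1 (hm y (List.mem_singleton_self y))
    obtain ⟨r, rfl⟩ := Ideal.mem_span_singleton'.1 hrx
    intro u v huv
    refine hr ?_
    simp only [add_smul, mul_smul] at huv ⊢
    rw [huv]
    have hz : ∀ w : M ⧸ (Ideal.ofList xs • ⊤ : Submodule R M), j • w = 0 := fun w => by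
      obtain ⟨w, rfl⟩ := Submodule.Quotient.mk_surjective _ w
      rw [← Submodule.Quotient.mk_smul, Submodule.Quotient.mk_eq_zero]
      exact Submodule.smul_mem_smul hj Submodule.mem_top
    rw [hz u, hz v]

theorem idealDepth_ofList_eq_length_iff (xs : List R) (hxs : ∀ x ∈ xs, x ∈ maximalIdeal R)
    (M : Type u) [AddCommGroup M] [Module R M] [Module.Finite R M] [Nontrivial M] :
    LocCoh.idealDepth (Ideal.ofList xs) M = xs.length ↔ IsWeaklyRegular M xs := by
  refine ⟨fun h => isWeaklyRegular_of_hasSeqIn xs hxs M ((le_idealDepth_iff _ _).1 h.ge), fun h => ?_⟩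
  refine le_antisymm (le_of_not_gt fun hlt => not_hasSeqIn_length_succ xs hxs M
    ((le_idealDepth_iff _ _).1 ?_)) ((le_idealDepth_iff _ _).2 ⟨xs, rfl, fun r hr => Ideal.subset_span hr, h⟩)
  rw [Nat.cast_succ]
  exact Order.add_one_le_of_lt hlt

end DepthBasic
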